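import Groth.Agent.H28NT.Connectedness
import Groth.Agent.S2363
import Mathlib.AlgebraicGeometry.Geometrically.Connected
import Mathlib.AlgebraicGeometry.Morphisms.Flat

/-!
# Zariski's connectedness theorem
-/

set_option autoImplicit false
set_option backward.isDefEq.respectTransparency false

universe u

open CategoryTheory Limits AlgebraicGeometry TopologicalSpace Opposite IsLocalRing

namespace Groth.Agent.H10ZMT

theorem flat_fromSpecStalk (Y : Scheme.{u}) (y : Y) : Flat (Y.fromSpecStalk y) := by
  obtain ⟨_, ⟨V, hV, rfl⟩, hy, -⟩ :=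
    Y.isBasis_affineOpens.exists_subset_of_mem_open (Set.mem_univ y) isOpen_univ
  rw [← hV.fromSpecStalk_eq_fromSpecStalk hy, IsAffineOpen.fromSpecStalk]
  have h1 : (Y.presheaf.germ V y hy).hom.Flat := by
    let := (Y.presheaf.germ V y hy).hom.toAlgebra
    have := hV.isLocalization_stalk ⟨y, hy⟩
    exact RingHom.flat_algebraMap_iff.2 (IsLocalization.flat _ (hV.primeIdealOf ⟨y, hy⟩).asIdeal.primeCompl)
  have : Flat (Spec.map (Y.presheaf.germ V y hy)) :=
    (HasRingHomProperty.Spec_iff (P := @Flat)).2 h1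
  infer_instance

/-- If `f_* O_X = O_Y`, this stays true after a flat base change to a local affine scheme. -/
theorem isIso_appTop_pullback_snd {X Y : Scheme.{u}} (f : X ⟶ Y) [QuasiCompact f] [QuasiSeparated f]
    (hf : ∀ U : Y.Opens, IsAffineOpen U → IsIso (f.app U)) {B : CommRingCat.{u}} [IsLocalRing B]
    (g : Spec B ⟶ Y) [Flat g] : IsIso (pullback.snd f g).appTop := by
  obtain ⟨_, ⟨V, hV, rfl⟩, hy, -⟩ :=
    Y.isBasis_affineOpens.exists_subset_of_mem_open (Set.mem_univ (g (closedPoint B))) isOpen_univ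
  have hgV : (⊤ : (Spec B).Opens) ≤ g ⁻¹ᵁ V := fun p _ =>
    (IsLocalRing.specializes_closedPoint p).mem_open (g ⁻¹ᵁ V).2 hy
  have hUY : (⊤ : (pullback f g).Opens) =
      pullback.fst f g ⁻¹ᵁ (f ⁻¹ᵁ V) ⊓ pullback.snd f g ⁻¹ᵁ ⊤ := by
    rw [← Scheme.Hom.comp_preimage, pullback.condition, Scheme.Hom.comp_preimage,
      top_le_iff.mp hgV]
    simp
  have hiso := isIso_pushoutSection_of_isQuasiSeparated_of_flat_right (IsPullback.of_hasPullback f g)
    hgV (le_refl (f ⁻¹ᵁ V)) hUY hV (isAffineOpen_top _) (f.isCompact_preimage hV.isCompact)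
    (f.isQuasiSeparated_preimage hV.isQuasiSeparated)
  have hp := (isIso_pushoutSection_iff (IsPullback.of_hasPullback f g) hgV (le_refl _) hUY).mp hiso
  have : IsIso (f.appLE V (f ⁻¹ᵁ V) (le_refl _)) := by
    rw [← f.app_eq_appLE]; exact hf V hV
  have := hp.isIso_inr_of_isIso
  rw [Scheme.Hom.appTop, Scheme.Hom.app_eq_appLE]
  exact this

variable {X Y : Scheme.{u}} (f : X ⟶ Y) [IsProper f] [IsLocallyNoetherian Y]
  (hf : ∀ U : Y.Opens, IsAffineOpen U → IsIso (f.app U))

include hf in
/-- Zariski's connectedness theorem, for all points with values in fields. -/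
theorem connectedSpace_pullback (K : Type u) [Field K] (a : Spec (CommRingCat.of K) ⟶ Y) :
    ConnectedSpace ↥(pullback f a) := by
  obtain ⟨⟨y, θ⟩, rfl⟩ := (Scheme.SpecToEquivOfField K Y).symm.surjective a
  let : Algebra (ResidueField (Y.presheaf.stalk y)) K := θ.hom.toAlgebra
  obtain ⟨B, _, _, hBN, hBL, hloc, hflat, e, he⟩ :=
    Groth.Agent.S2363.result (A := Y.presheaf.stalk y) K
  let m := (maximalIdeal (Y.presheaf.stalk y)).map (algebraMap (Y.presheaf.stalk y) B)
  have hmk : Function.Surjective (e.toRingHom.comp (Ideal.Quotient.mk m)) :=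
    e.surjective.comp Ideal.Quotient.mk_surjective
  let q : CommRingCat.of B ⟶ CommRingCat.of K := CommRingCat.ofHom (e.toRingHom.comp (Ideal.Quotient.mk m))
  let g : Spec (CommRingCat.of B) ⟶ Y :=
    Spec.map (CommRingCat.ofHom (algebraMap (Y.presheaf.stalk y) B)) ≫ Y.fromSpecStalk y
  have : Flat g := by
    have := flat_fromSpecStalk Y y
    have : Flat (Spec.map (CommRingCat.ofHom (algebraMap (Y.presheaf.stalk y) B))) :=
      (HasRingHomProperty.Spec_iff (P := @Flat)).2 (RingHom.flat_algebraMap_iff.2 hflat)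
    infer_instance
  have hfac : Spec.map q ≫ g = Spec.map θ ≫ Y.fromSpecResidueField y := by
    rw [Scheme.fromSpecResidueField, ← Category.assoc, ← Category.assoc, ← Spec.map_comp,
      ← Spec.map_comp]
    congr 2
    ext r
    exact he r
  have : IsClosedImmersion (Spec.map q) := IsClosedImmersion.spec_of_surjective q hmk
  let p := pullback.snd f g
  let : (pullback f g).Over (Spec (CommRingCat.of B)) := ⟨p⟩
  have : IsProper ((pullback f g) ↘ Spec (CommRingCat.of B)) := inferInstanceAs (IsProper p)
  have hiso : IsIso p.appTop := isIso_appTop_pullback_snd f hf g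
  have hsurj : Function.Surjective (Coh.toGlobal p) :=
    (ConcreteCategory.bijective_of_isIso p.appTop).2.comp
      (ConcreteCategory.bijective_of_isIso (Scheme.ΓSpecIso (CommRingCat.of B)).inv).2
  have hpre := H28NT.isPreconnected_closedFibre (X := pullback f g) (A := B) hsurj
  have hne : closedPoint B ∈ Set.range p := by
    by_contra hcon
    have hempty : IsEmpty ↥(pullback f g) := ⟨fun x => hcon
      ((IsLocalRing.specializes_closedPoint (p x)).mem_closed p.isClosedMap.isClosed_range ⟨x, rfl⟩)⟩
    have hsub : Subsingleton Γ(pullback f g, ⊤) :=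
      CommRingCat.subsingleton_of_isTerminal ((pullback f g).sheaf.isTerminalOfEqEmpty
        (Opens.ext (Set.eq_empty_of_isEmpty _)))
    have h1 : Subsingleton Γ(Spec (CommRingCat.of B), ⊤) :=
      (ConcreteCategory.bijective_of_isIso p.appTop).1.subsingleton
    have h2 : Subsingleton B :=
      (ConcreteCategory.bijective_of_isIso (Scheme.ΓSpecIso (CommRingCat.of B)).inv).1.subsingleton
    exact not_subsingleton B h2
  let i := pullback.fst p (Spec.map q)
  have hrange : Set.range i = p ⁻¹' {closedPoint B} := by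
    rw [Scheme.Pullback.range_fst]
    refine congrArg (p ⁻¹' ·) (Set.eq_singleton_iff_unique_mem.2 ⟨⟨closedPoint K, ?_⟩, ?_⟩)
    · have : IsLocalHom q.hom := .of_surjective q.hom hmk
      exact IsLocalRing.comap_closedPoint q.hom
    · rintro _ ⟨k, rfl⟩
      rw [Subsingleton.elim k (closedPoint K)]
      have : IsLocalHom q.hom := .of_surjective q.hom hmk
      exact IsLocalRing.comap_closedPoint q.hom
  have hconn : ConnectedSpace ↥(pullback p (Spec.map q)) := by
    rw [connectedSpace_iff_univ]
    refine ⟨?_, ?_⟩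
    · obtain ⟨x, hx⟩ := hne
      obtain ⟨z, -⟩ : x ∈ Set.range i := hrange ▸ hx
      exact ⟨z, trivial⟩
    · rw [← i.isClosedEmbedding.isInducing.isPreconnected_image, Set.image_univ, hrange]
      exact hpre
  let e' : pullback p (Spec.map q) ≅ pullback f (Spec.map θ ≫ Y.fromSpecResidueField y) :=
    pullbackLeftPullbackSndIso f g (Spec.map q) ≪≫ pullback.congrHom rfl hfac
  exact e'.hom.homeomorph.surjective.connectedSpace e'.hom.continuous

include hf in
theorem geometricallyConnected : GeometricallyConnected f :=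
  ⟨geometrically_iff_of_isClosedUnderIsomorphisms.2 fun K _ a => connectedSpace_pullback f hf K a⟩

end Groth.Agent.H10ZMT
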