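import Groth.Agent.H10ZMT.Basic
import Groth.Agent.H10ZMT.Connected
import Groth.Agent.S1297

/-!
# Stein factorisation through the relative normalization
-/

set_option autoImplicit false
set_option backward.isDefEq.respectTransparency false

universe u

open CategoryTheory Limits AlgebraicGeometry TopologicalSpace Opposite

namespace Groth.Agent.H10ZMT

variable {X Y : Scheme.{u}}

/-- Bijectivity on an affine open passes to its basic opens. -/
theorem bijective_app_basicOpen (f : X ⟶ Y) [QuasiCompact f] [QuasiSeparated f] {W : Y.Opens}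
    (hW : IsAffineOpen W) (h : Function.Bijective (f.app W)) (s : Γ(Y, W)) :
    Function.Bijective (f.app (Y.basicOpen s)) := by
  have := hW.isLocalization_basicOpen s
  have hqc : IsCompact (f ⁻¹ᵁ W : Set X) := f.isCompact_preimage hW.isCompact
  have hqs : IsQuasiSeparated (f ⁻¹ᵁ W : Set X) := f.isQuasiSeparated_preimage hW.isQuasiSeparated
  have h2 : ∀ b : Γ(X, f ⁻¹ᵁ W), IsLocalization.Away b Γ(X, X.basicOpen b) :=
    fun b => isLocalization_basicOpen_of_qcqs hqc hqs b
  have := h2 (f.app W s)
  let e : Γ(Y, W) ≃+* Γ(X, f ⁻¹ᵁ W) := RingEquiv.ofBijective (f.app W).hom h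
  have he : (Submonoid.powers s).map e.toMonoidHom = Submonoid.powers (f.app W s) := by
    rw [Submonoid.map_powers]; rfl
  let E := IsLocalization.ringEquivOfRingEquiv (S := Γ(Y, Y.basicOpen s))
    (Q := Γ(X, X.basicOpen (f.app W s))) e he
  have key : (f.appLE (Y.basicOpen s) (X.basicOpen (f.app W s))
      (le_of_eq (Scheme.preimage_basicOpen f s).symm)).hom = E.toRingHom := by
    refine IsLocalization.ringHom_ext (Submonoid.powers s) ?_
    ext a
    refine Eq.trans ?_ (IsLocalization.ringEquivOfRingEquiv_eq (S := Γ(Y, Y.basicOpen s))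
      (Q := Γ(X, X.basicOpen (f.app W s))) he a).symm
    show (Y.presheaf.map (homOfLE (Y.basicOpen_le s)).op ≫ f.appLE _ _ _) a = _
    rw [Scheme.Hom.map_appLE, Scheme.Hom.appLE, CommRingCat.comp_apply]
    rfl
  have hb : Function.Bijective (f.appLE (Y.basicOpen s) (X.basicOpen (f.app W s))
      (le_of_eq (Scheme.preimage_basicOpen f s).symm)) := by
    show Function.Bijective (f.appLE (Y.basicOpen s) (X.basicOpen (f.app W s))
      (le_of_eq (Scheme.preimage_basicOpen f s).symm)).hom
    rw [key]
    exact E.bijective
  have : ∀ (V : X.Opens) (hV : V = f ⁻¹ᵁ Y.basicOpen s),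
      Function.Bijective (f.appLE (Y.basicOpen s) V hV.le) → Function.Bijective (f.app (Y.basicOpen s)) := by
    rintro V rfl hV
    rwa [← f.app_eq_appLE] at hV
  exact this _ (Scheme.preimage_basicOpen f s).symm hb

/-- A morphism inducing bijections on sections over a basis of opens does so over all opens. -/
theorem isIso_app_of_basis (f : X ⟶ Y) (P : Y.Opens → Prop)
    (hP : ∀ (x : Y) (W : Y.Opens), x ∈ W → ∃ A : Y.Opens, P A ∧ x ∈ A ∧ A ≤ W)
    (h : ∀ V : Y.Opens, P V → Function.Bijective (f.app V))
    (U : Y.Opens) : IsIso (f.app U) := by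
  rw [ConcreteCategory.isIso_iff_bijective]
  let G : TopCat.Sheaf CommRingCat.{u} Y.carrier := (TopCat.Sheaf.pushforward _ f.base).obj X.sheaf
  refine TopCat.Presheaf.app_bijective_of_stalkFunctor_map_bijective (F := Y.sheaf) (G := G) ⟨f.c⟩ U
    fun x _ => ⟨(injective_iff_map_eq_zero _).2 fun a ha => ?_, fun b => ?_⟩
  · obtain ⟨W, hW, a, rfl⟩ := Y.presheaf.exists_germ_eq a
    erw [TopCat.Presheaf.stalkFunctor_map_germ_apply] at ha
    rw [← map_zero (TopCat.Presheaf.germ G.obj W x hW).hom] at ha
    obtain ⟨W', hxW', i, j, hij⟩ := TopCat.Presheaf.germ_eq G.obj x hW hW _ _ ha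
    obtain ⟨A, hA, hxA, hAW⟩ := hP x W' hxW'
    have h0 : f.app A (Y.presheaf.map ((homOfLE hAW).op) (Y.presheaf.map i.op a)) = 0 := by
      have n1 := congr($(f.c.naturality (homOfLE hAW).op) (Y.presheaf.map i.op a))
      have n2 := congr($(f.c.naturality i.op) a)
      simp only [CommRingCat.comp_apply] at n1 n2
      refine n1.trans ?_
      rw [n2]
      refine (congrArg _ hij).trans ?_
      rw [map_zero]
      exact map_zero _
    have h1 := (h A hA).1 (h0.trans (map_zero _).symm)
    rw [← TopCat.Presheaf.germ_res_apply Y.presheaf i x hxW' a,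
      ← TopCat.Presheaf.germ_res_apply Y.presheaf (homOfLE hAW) x hxA]
    exact (congrArg (Y.presheaf.germ A x hxA) h1).trans (map_zero _)
  · obtain ⟨W, hW, b, rfl⟩ := TopCat.Presheaf.exists_germ_eq G.obj b
    obtain ⟨A, hA, hxA, hAW⟩ := hP x W hW
    obtain ⟨a, ha⟩ := (h A hA).2 (G.obj.map (homOfLE hAW).op b)
    refine ⟨Y.presheaf.germ A x hxA a, ?_⟩
    erw [TopCat.Presheaf.stalkFunctor_map_germ_apply]
    refine (congrArg _ ha).trans ?_
    exact TopCat.Presheaf.germ_res_apply G.obj (homOfLE hAW) x hxA b

/-- The functions on the relative normalization are those on the source. -/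
theorem isIso_app_toNormalization (f : X ⟶ Y) [UniversallyClosed f] [QuasiSeparated f]
    (U : f.normalization.Opens) : IsIso (f.toNormalization.app U) := by
  refine isIso_app_of_basis f.toNormalization
    (fun A => ∃ V : Y.affineOpens, ∃ s : Γ(f.normalization, f.fromNormalization ⁻¹ᵁ V.1),
      A = f.normalization.basicOpen s) (fun x W hxW => ?_) ?_ U
  · obtain ⟨_, ⟨V, hV, rfl⟩, hyV, -⟩ :=
      Y.isBasis_affineOpens.exists_subset_of_mem_open (Set.mem_univ (f.fromNormalization x)) isOpen_univ
    obtain ⟨s, hs, hxs⟩ := (hV.preimage f.fromNormalization).exists_basicOpen_le (V := W) ⟨x, hxW⟩ hyV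
    exact ⟨_, ⟨⟨V, hV⟩, s, rfl⟩, hxs, hs⟩
  rintro _ ⟨V, s, rfl⟩
  refine bijective_app_basicOpen f.toNormalization (V.2.preimage f.fromNormalization) ?_ s
  let := (f.app V.1).hom.toAlgebra
  have : IsIso (CommRingCat.ofHom (RingHomClass.toRingHom (integralClosure Γ(Y, V.1) Γ(X, f ⁻¹ᵁ V.1)).val)) := by
    refine (ConcreteCategory.isIso_iff_bijective _).2 ⟨Subtype.val_injective, fun b => ?_⟩
    exact ⟨⟨b, isIntegral_app f V.1 V.2 b⟩, rfl⟩
  rw [← ConcreteCategory.isIso_iff_bijective, f.toNormalization_app_preimage V]
  infer_instance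

/-- The first map of the Stein factorisation has geometrically connected fibres. -/
theorem geometricallyConnected_toNormalization (f : X ⟶ Y) [IsProper f] [IsLocallyNoetherian Y] :
    GeometricallyConnected f.toNormalization := by
  have hfin : IsFinite f.fromNormalization := Groth.Agent.S1297.result f
  have : IsLocallyNoetherian f.normalization :=
    LocallyOfFiniteType.isLocallyNoetherian f.fromNormalization
  have : IsProper (f.toNormalization ≫ f.fromNormalization) := by
    rw [f.toNormalization_fromNormalization]; infer_instance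
  have : IsProper f.toNormalization := IsProper.of_comp _ f.fromNormalization
  exact geometricallyConnected _ fun U _ => isIso_app_toNormalization f U

end Groth.Agent.H10ZMT

namespace Groth.Agent.H10ZMT

variable {X Y : Scheme.{u}}

theorem fiberMapOver_fiberι {Z : Scheme.{u}} (f : X ⟶ Y) (g : X ⟶ Z) (h : Y ⟶ Z) (w : f ≫ h = g) (z : Z)
    (x : g.fiber z) :
    h.fiberι z (CohIII.fiberMapOver f g h w z x) = f (g.fiberι z x) := by
  have hh : CohIII.fiberMapOver f g h w z ≫ h.fiberι z = g.fiberι z ≫ f := pullback.lift_fst _ _ _
  rw [← Scheme.Hom.comp_apply, hh, Scheme.Hom.comp_apply]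

/-- Stein factorisation: the fibres of the finite part are the connected components. -/
theorem fiber_components (f : X ⟶ Y) [IsProper f] [IsLocallyNoetherian Y] (y : Y) :
    Finite ↥(f.fromNormalization.fiber y) ∧
    Function.Surjective (CohIII.fiberMapOver f.toNormalization f f.fromNormalization
        f.toNormalization_fromNormalization y).base ∧
    ∀ x x' : ↥(f.fiber y),
      (CohIII.fiberMapOver f.toNormalization f f.fromNormalization f.toNormalization_fromNormalization y).base x =
        (CohIII.fiberMapOver f.toNormalization f f.fromNormalization f.toNormalization_fromNormalization y).base x' ↔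
      connectedComponent x = connectedComponent x' := by
  have hfin : IsFinite f.fromNormalization := Groth.Agent.S1297.result f
  have := geometricallyConnected_toNormalization f
  have hF : Finite ↥(f.fromNormalization.fiber y) :=
    (f.fromNormalization.fiberHomeo y).finite_iff.mpr (f.fromNormalization.finite_preimage_singleton y).to_subtype
  let Φ := CohIII.fiberMapOver f.toNormalization f f.fromNormalization f.toNormalization_fromNormalization y
  refine ⟨hF, fun z => ?_, fun x x' => ?_⟩
  · obtain ⟨x, hx⟩ := f.toNormalization.surjective (f.fromNormalization.fiberι y z)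
    have hxy : x ∈ f ⁻¹' {y} := by
      show f x = y
      rw [← f.toNormalization_fromNormalization, Scheme.Hom.comp_apply, hx]
      have : f.fromNormalization.fiberι y z ∈ f.fromNormalization ⁻¹' {y} := by
        rw [← Scheme.Hom.range_fiberι]; exact ⟨z, rfl⟩
      exact this
    rw [← Scheme.Hom.range_fiberι] at hxy
    obtain ⟨x', hx'⟩ := hxy
    refine ⟨x', (f.fromNormalization.fiberι y).isEmbedding.injective ?_⟩
    rw [fiberMapOver_fiberι, hx', hx]
  constructor
  · intro h
    let S : Set ↥(f.fiber y) := f.fiberι y ⁻¹' (f.toNormalization ⁻¹' {f.toNormalization (f.fiberι y x)})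
    have hS : _root_.IsPreconnected S := by
      refine (f.fiberι y).isEmbedding.isInducing.isPreconnected_image.1 ?_
      rw [Set.image_preimage_eq_of_subset]
      · exact (f.toNormalization.isConnected_preimage_singleton _).2
      intro w hw
      rw [Scheme.Hom.range_fiberι]
      show f w = y
      have hx : f (f.fiberι y x) = y := by
        have : f.fiberι y x ∈ f ⁻¹' {y} := by rw [← Scheme.Hom.range_fiberι]; exact ⟨x, rfl⟩
        exact this
      have hcomp : ∀ z : X, f z = f.fromNormalization (f.toNormalization z) := fun z => by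
        rw [← Scheme.Hom.comp_apply, f.toNormalization_fromNormalization]
      rw [← hx, hcomp, hcomp (f.fiberι y x)]
      exact congrArg _ hw
    have hxS : x ∈ S := rfl
    have hx'S : x' ∈ S := by
      show f.toNormalization (f.fiberι y x') = f.toNormalization (f.fiberι y x)
      have h1 := fiberMapOver_fiberι _ _ _ f.toNormalization_fromNormalization y x
      have h2 := fiberMapOver_fiberι _ _ _ f.toNormalization_fromNormalization y x'
      exact h2.symm.trans ((congrArg _ h).symm.trans h1)
    exact (connectedComponent_eq (hS.subset_connectedComponent hxS hx'S))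
  · intro h
    have : DiscreteTopology ↥(f.fromNormalization.fiber y) := inferInstance
    exact (isPreconnected_connectedComponent.image Φ.base Φ.continuous.continuousOn).subsingleton
      (Set.mem_image_of_mem _ mem_connectedComponent)
      (Set.mem_image_of_mem _ (h.symm ▸ mem_connectedComponent))

end Groth.Agent.H10ZMT
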