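import Groth.Agent.H7Lim.NormalizationNormal
import Groth.Agent.H7Lim.Birational
import Groth.Prelude.Def_ega3
import Groth.Prelude.Def_Pi1

/-!
# Morphisms whose functions are the functions of the base
-/

set_option autoImplicit false
set_option backward.isDefEq.respectTransparency false

universe u

open CategoryTheory Limits AlgebraicGeometry TopologicalSpace Opposite

namespace Groth.Agent.H10ZMT

variable {X Y : Scheme.{u}}

/-- If the sections of `Y` over affine opens are the integral elements, the normalization is `Y`. -/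
theorem isIso_fromNormalization (f : X ⟶ Y) [QuasiCompact f] [QuasiSeparated f]
    (h : ∀ V : Y.Opens, IsAffineOpen V → Function.Injective (f.app V) ∧
      ∀ b, (f.app V).hom.IsIntegralElem b → ∃ a, f.app V a = b) :
    IsIso f.fromNormalization := by
  show MorphismProperty.isomorphisms Scheme f.fromNormalization
  rw [HasAffineProperty.iff_of_iSup_eq_top (P := MorphismProperty.isomorphisms Scheme)
    (fun U : Y.affineOpens ↦ U) (iSup_affineOpens_eq_top Y)]
  intro U
  refine ⟨U.2.preimage f.fromNormalization, ?_⟩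
  suffices IsIso (f.fromNormalization.app U.1) by
    have : IsIso (f.fromNormalization.app ((U.1 : Y.Opens).ι ''ᵁ ⊤)) := by
      rw [Scheme.Opens.ι_image_top]; exact this
    rw [morphismRestrict_appTop]
    infer_instance
  rw [f.fromNormalization_app U.2]
  let := (f.app U.1).hom.toAlgebra
  have : IsIso (CommRingCat.ofHom
      (algebraMap Γ(Y, U.1) (integralClosure Γ(Y, U.1) Γ(X, f ⁻¹ᵁ U.1)))) := by
    refine (ConcreteCategory.isIso_iff_bijective _).2 ⟨fun a a' haa => ?_, fun b => ?_⟩
    · exact (h U.1 U.2).1 (congrArg Subtype.val haa)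
    · obtain ⟨a, ha⟩ := (h U.1 U.2).2 b.1 b.2
      exact ⟨a, Subtype.ext ha⟩
  infer_instance

theorem subsingleton_sections_bot {U : X.Opens} (hU : U = ⊥) : Subsingleton Γ(X, U) :=
  CommRingCat.subsingleton_of_isTerminal (X.sheaf.isTerminalOfEqEmpty hU)

variable [IsIntegral X] [IsIntegral Y]

theorem apply_genericPoint (f : X ⟶ Y) (hdom : f.base (genericPoint X) ⤳ genericPoint Y) :
    f.base (genericPoint X) = genericPoint Y :=
  (hdom.antisymm ((genericPoint_spec Y).specializes (Set.mem_univ _))).eq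

theorem isDominant_of_apply_genericPoint (f : X ⟶ Y) (h : f.base (genericPoint X) = genericPoint Y) :
    IsDominant f := by
  constructor
  intro y
  exact closure_mono (Set.singleton_subset_iff.2 (Set.mem_range.2 ⟨genericPoint X, h⟩))
    ((genericPoint_spec Y).specializes (Set.mem_univ y)).mem_closure

theorem stalkToFunctionField_germ (f : X ⟶ Y) (hdom : f.base (genericPoint X) ⤳ genericPoint Y)
    (V : Y.Opens) (hη : genericPoint Y ∈ V) (hξ : genericPoint X ∈ f ⁻¹ᵁ V) (a : Γ(Y, V)) :
    CohIII.stalkToFunctionField f (genericPoint Y) hdom (Y.presheaf.germ V _ hη a) =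
      X.presheaf.germ (f ⁻¹ᵁ V) (genericPoint X) hξ (f.app V a) := by
  refine (congrArg (f.stalkMap (genericPoint X)).hom
    (congr($(Y.presheaf.germ_stalkSpecializes hη hdom) a))).trans ?_
  exact congr($(Scheme.Hom.germ_stalkMap f V (genericPoint X) hξ) a)

/-- `f` is dominant, `Y` is normal and `K(Y)` is integrally closed in `K(X)`: sections integral over
those of `Y` come from `Y`. -/
theorem app_integral_elems (hY : Pi1.IsNormalScheme Y) (f : X ⟶ Y)
    (hdom : f.base (genericPoint X) ⤳ genericPoint Y)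
    (halg : ∀ x : X.functionField,
      (∃ p : Polynomial Y.functionField, p ≠ 0 ∧
        Polynomial.eval₂ (CohIII.stalkToFunctionField f (genericPoint Y) hdom) x p = 0) →
      x ∈ Set.range (CohIII.stalkToFunctionField f (genericPoint Y) hdom))
    (V : Y.Opens) :
    Function.Injective (f.app V) ∧ ∀ b, (f.app V).hom.IsIntegralElem b → ∃ a, f.app V a = b := by
  rcases (V : Set Y).eq_empty_or_nonempty with hV | hV
  · have hV' : V = ⊥ := Opens.ext hV
    have := subsingleton_sections_bot hV'
    have := subsingleton_sections_bot (U := f ⁻¹ᵁ V) (by rw [hV']; rfl)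
    exact ⟨fun _ _ _ => Subsingleton.elim _ _, fun b _ => ⟨0, Subsingleton.elim _ _⟩⟩
  have hη : genericPoint Y ∈ V :=
    ((genericPoint_spec Y).mem_open_set_iff V.2).mpr (by rwa [Set.univ_inter])
  have hξ : genericPoint X ∈ f ⁻¹ᵁ V := by
    show f.base (genericPoint X) ∈ V
    rw [apply_genericPoint f hdom]; exact hη
  have : Nonempty V := ⟨⟨_, hη⟩⟩
  let φ := CohIII.stalkToFunctionField f (genericPoint Y) hdom
  have hφ : Function.Injective φ := φ.injective
  have hnat := stalkToFunctionField_germ f hdom V hη hξ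
  refine ⟨fun a a' h => germ_injective_of_isIntegral Y _ hη (hφ ?_), fun b hb => ?_⟩
  · rw [hnat, hnat, h]
  obtain ⟨p, hp, hp'⟩ := hb
  have hcomp : φ.comp (Y.presheaf.germ V (genericPoint Y) hη).hom =
      (X.presheaf.germ (f ⁻¹ᵁ V) (genericPoint X) hξ).hom.comp (f.app V).hom :=
    RingHom.ext hnat
  have hroot : (p.map (Y.presheaf.germ V (genericPoint Y) hη).hom).eval₂ φ
      (X.presheaf.germ (f ⁻¹ᵁ V) (genericPoint X) hξ b) = 0 := by
    rw [Polynomial.eval₂_map, hcomp, ← Polynomial.hom_eval₂, hp', map_zero]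
  obtain ⟨z, hz⟩ := halg _ ⟨_, (hp.map _).ne_zero, hroot⟩
  obtain ⟨a, ha⟩ := H7Lim.exists_germ_eq_of_isIntegralElem (fun y => (hY y).2) hη (z := z)
    ⟨p, hp, hφ (by
      rw [Polynomial.hom_eval₂, map_zero]
      erw [hz]
      rw [← Polynomial.eval₂_map]
      exact hroot)⟩
  refine ⟨a, germ_injective_of_isIntegral X _ hξ ?_⟩
  rw [← hnat a, ha]
  exact hz

omit [IsIntegral X] [IsIntegral Y] in
/-- Sections over the preimage of an affine open are integral when `f` is universally closed. -/
theorem isIntegral_app (f : X ⟶ Y) [UniversallyClosed f] (V : Y.Opens) (hV : IsAffineOpen V) :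
    (f.app V).hom.IsIntegral := by
  have : IsAffine (V : Scheme) := hV
  have h := isIntegral_appTop_of_universallyClosed (f ∣_ V)
  rw [morphismRestrict_appTop] at h
  have h2 : ∀ W : Y.Opens, W = V → (f.app W).hom.IsIntegral → (f.app V).hom.IsIntegral := by
    rintro W rfl hW
    exact hW
  refine h2 (V.ι ''ᵁ ⊤) V.ι_image_top ?_
  intro b
  obtain ⟨p, hp, hp'⟩ := h ((X.presheaf.map (eqToHom (image_morphismRestrict_preimage f V ⊤)).op).hom b)
  refine ⟨p, hp, ?_⟩
  apply (ConcreteCategory.bijective_of_isIso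
    (X.presheaf.map (eqToHom (image_morphismRestrict_preimage f V ⊤)).op)).1
  rw [map_zero]
  refine Eq.trans ?_ hp'
  exact Polynomial.hom_eval₂ p (f.app (V.ι ''ᵁ ⊤)).hom
    (X.presheaf.map (eqToHom (image_morphismRestrict_preimage f V ⊤)).op).hom b

omit [IsIntegral X] [IsIntegral Y] in
/-- A morphism inducing isomorphisms on sections over affine opens does so over all opens. -/
theorem isIso_app_of_affine (f : X ⟶ Y) (h : ∀ V : Y.Opens, IsAffineOpen V → Function.Bijective (f.app V))
    (U : Y.Opens) : IsIso (f.app U) := by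
  rw [ConcreteCategory.isIso_iff_bijective]
  let G : TopCat.Sheaf CommRingCat.{u} Y.carrier := (TopCat.Sheaf.pushforward _ f.base).obj X.sheaf
  refine TopCat.Presheaf.app_bijective_of_stalkFunctor_map_bijective (F := Y.sheaf) (G := G) ⟨f.c⟩ U
    fun x _ => ⟨(injective_iff_map_eq_zero _).2 fun a ha => ?_, fun b => ?_⟩
  · obtain ⟨W, hW, a, rfl⟩ := Y.presheaf.exists_germ_eq a
    erw [TopCat.Presheaf.stalkFunctor_map_germ_apply] at ha
    rw [← map_zero (TopCat.Presheaf.germ G.obj W x hW).hom] at ha
    obtain ⟨W', hxW', i, j, hij⟩ := TopCat.Presheaf.germ_eq G.obj x hW hW _ _ ha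
    obtain ⟨_, ⟨A, hA, rfl⟩, hxA, hAW⟩ :=
      Y.isBasis_affineOpens.exists_subset_of_mem_open hxW' W'.2
    have h0 : f.app A (Y.presheaf.map ((homOfLE hAW).op) (Y.presheaf.map i.op a)) = 0 := by
      have n1 := congr($(f.c.naturality (homOfLE hAW).op) (Y.presheaf.map i.op a))
      have n2 := congr($(f.c.naturality i.op) a)
      simp only [CommRingCat.comp_apply] at n1 n2
      refine n1.trans ?_
      rw [n2]
      refine (congrArg _ hij).trans ?_
      rw [map_zero]
      exact map_zero _
    have h1 := (h A hA).1 (h0.trans (map_zero _).symm)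
    rw [← TopCat.Presheaf.germ_res_apply Y.presheaf i x hxW' a,
      ← TopCat.Presheaf.germ_res_apply Y.presheaf (homOfLE hAW) x hxA]
    exact (congrArg (Y.presheaf.germ A x hxA) h1).trans (map_zero _)
  · obtain ⟨W, hW, b, rfl⟩ := TopCat.Presheaf.exists_germ_eq G.obj b
    obtain ⟨_, ⟨A, hA, rfl⟩, hxA, hAW⟩ := Y.isBasis_affineOpens.exists_subset_of_mem_open hW W.2
    obtain ⟨a, ha⟩ := (h A hA).2 (G.obj.map (homOfLE hAW).op b)
    refine ⟨Y.presheaf.germ A x hxA a, ?_⟩
    erw [TopCat.Presheaf.stalkFunctor_map_germ_apply]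
    refine (congrArg _ ha).trans ?_
    exact TopCat.Presheaf.germ_res_apply G.obj (homOfLE hAW) x hxA b

end Groth.Agent.H10ZMT

namespace Groth.Agent.H10ZMT

variable {X Y : Scheme.{u}}

/-- Zariski's main theorem when the relative normalization is the base. -/
theorem exists_open_isIso_quasiFinite (f : X ⟶ Y) [LocallyOfFiniteType f] [IsSeparated f] [QuasiCompact f]
    [IsIso f.fromNormalization] :
    ∃ V : Y.Opens, IsIso (f ∣_ V) ∧ ∀ x, x ∈ f ⁻¹ᵁ V ↔ f.QuasiFiniteAt x := by
  obtain ⟨U, hU, e⟩ := f.exists_isIso_morphismRestrict_toNormalization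
  let V : Y.Opens := inv f.fromNormalization ⁻¹ᵁ U
  have hV : f.fromNormalization ⁻¹ᵁ V = U := by
    rw [← Scheme.Hom.comp_preimage, IsIso.hom_inv_id, Scheme.Hom.id_preimage]
  have hfV : f ⁻¹ᵁ V = f.toNormalization ⁻¹ᵁ U :=
    ((congrArg (fun g => g ⁻¹ᵁ V) f.toNormalization_fromNormalization.symm).trans
      (Scheme.Hom.comp_preimage _ _ _)).trans (congrArg (f.toNormalization ⁻¹ᵁ ·) hV)
  refine ⟨V, ?_, fun x => ?_⟩
  · have h1 : IsIso (f.toNormalization ∣_ (f.fromNormalization ⁻¹ᵁ V)) := by
      rw [hV]; exact hU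
    have h3 : ∀ g : X ⟶ Y, g = f.toNormalization ≫ f.fromNormalization → IsIso (g ∣_ V) := by
      rintro g rfl
      rw [morphismRestrict_comp]
      infer_instance
    exact h3 f f.toNormalization_fromNormalization.symm
  · rw [hfV]
    exact Set.ext_iff.1 e x

theorem quasiFiniteAt_of_isOpen_singleton (f : X ⟶ Y) [LocallyOfFiniteType f] {y : Y} {x : f.fiber y}
    (h : IsOpen ({x} : Set (f.fiber y))) :
    f (f.fiberι y x) = y ∧ f.QuasiFiniteAt (f.fiberι y x) := by
  have hxy : f (f.fiberι y x) = y := by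
    have : f.fiberι y x ∈ f ⁻¹' {y} := by
      rw [← Scheme.Hom.range_fiberι]; exact ⟨x, rfl⟩
    exact this
  refine ⟨hxy, Scheme.Hom.quasiFiniteAt_iff_isOpen_singleton_asFiber.2 ?_⟩
  have key : ∀ (z : X), f z = y → f.fiberι y x = z → IsOpen {f.asFiber z} := by
    rintro z rfl hz
    have : f.asFiber z = x :=
      (f.fiberι _).isEmbedding.injective ((f.fiberι_asFiber z).trans hz.symm)
    rwa [this]
  exact key _ hxy rfl

/-- A stalk map which is bijective gives a quasi-finite point. -/
theorem quasiFiniteAt_of_surjective (f : X ⟶ Y) (x : X) (h : Function.Surjective (f.stalkMap x)) :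
    f.QuasiFiniteAt x :=
  RingHom.QuasiFinite.of_finite (RingHom.Finite.of_surjective _ h)

variable [IsIntegral X] [IsIntegral Y]

theorem stalkToFunctionField_surjective (f : X ⟶ Y) (hξ : f.base (genericPoint X) = genericPoint Y)
    (h : Function.Surjective (f.stalkMap (genericPoint X))) (hdom : f.base (genericPoint X) ⤳ genericPoint Y) :
    Function.Surjective (CohIII.stalkToFunctionField f (genericPoint Y) hdom) := by
  intro z
  obtain ⟨w, rfl⟩ := h z
  obtain ⟨W, hW, w, rfl⟩ := Y.presheaf.exists_germ_eq w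
  have hη : genericPoint Y ∈ W := hξ ▸ hW
  refine ⟨Y.presheaf.germ W _ hη w, ?_⟩
  rw [stalkToFunctionField_germ f hdom W hη hW]
  exact (congr($(Scheme.Hom.germ_stalkMap f W (genericPoint X) hW) w)).symm

end Groth.Agent.H10ZMT
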