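import Groth.Agent.H10ZMT.Basic
import Groth.Agent.H22Alg.KrullAkizuki

/-!
# Birational morphisms have finite fibres over points of codimension one
-/

set_option autoImplicit false
set_option backward.isDefEq.respectTransparency false

universe u

open CategoryTheory Limits AlgebraicGeometry TopologicalSpace Opposite IsLocalRing

namespace Groth.Agent.H10ZMT

variable {X Y : Scheme.{u}} [IsIntegral X] [IsIntegral Y]

/-- The part in an affine open of the fibre over a point whose local ring has dimension one is finite. -/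
theorem finite_fibre_inter_of_dim_le_one (f : X ⟶ Y) [IsLocallyNoetherian Y]
    (hdom : f.base (genericPoint X) ⤳ genericPoint Y)
    (hbir : Function.Surjective (CohIII.stalkToFunctionField f (genericPoint Y) hdom))
    (y : Y) (hne : y ≠ genericPoint Y) (hdim : ringKrullDim (Y.presheaf.stalk y) ≤ 1)
    (V : Y.Opens) (hV : IsAffineOpen V) (hyV : y ∈ V)
    (W : X.Opens) (hW : IsAffineOpen W) (hWV : W ≤ f ⁻¹ᵁ V) :
    {x : X | x ∈ W ∧ f x = y}.Finite := by
  rcases (W : Set X).eq_empty_or_nonempty with hWe | hWne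
  · refine Set.finite_empty.subset fun x hx => ?_
    rw [← hWe]; exact hx.1
  have : Nonempty W := hWne.to_subtype
  have hξW : genericPoint X ∈ W := ((genericPoint_spec X).mem_open_set_iff W.2).mpr (by rwa [Set.univ_inter])
  have hξ : genericPoint X ∈ f ⁻¹ᵁ V := hWV hξW
  have hspec : genericPoint Y ⤳ y := (genericPoint_spec Y).specializes (Set.mem_univ _)
  have hη : genericPoint Y ∈ V := hspec.mem_open V.2 hyV
  let R := Y.presheaf.stalk y
  let K := X.functionField
  let φ := CohIII.stalkToFunctionField f (genericPoint Y) hdom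
  let : Algebra R K := (φ.comp (algebraMap R Y.functionField)).toAlgebra
  let E : Y.functionField ≃ₐ[R] K :=
    AlgEquiv.ofRingEquiv (f := RingEquiv.ofBijective φ ⟨φ.injective, hbir⟩) fun _ => rfl
  have : IsFractionRing R K := IsLocalization.isLocalization_of_algEquiv (nonZeroDivisors R) E
  have : Ring.KrullDimLE 1 R := Ring.krullDimLE_iff.2 hdim
  let gR : Γ(Y, V) →+* R := (Y.presheaf.germ V y hyV).hom
  let := gR.toAlgebra
  have hloc : IsLocalization.AtPrime R (hV.primeIdealOf ⟨y, hyV⟩).asIdeal := hV.isLocalization_stalk ⟨y, hyV⟩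
  let p := (hV.primeIdealOf ⟨y, hyV⟩).asIdeal
  let gW : Γ(X, W) →+* K := (X.presheaf.germ W (genericPoint X) hξW).hom
  have hgW : Function.Injective gW := germ_injective_of_isIntegral X _ hξW
  let σ := (f.appLE V W hWV).hom
  have hσ : ∀ a, gW (σ a) = algebraMap R K (gR a) := by
    intro a
    refine Eq.trans ?_ ((congrArg φ (congr($(Y.presheaf.germ_stalkSpecializes hyV hspec) a))).trans
      (stalkToFunctionField_germ f hdom V hη hξ a)).symm
    show X.presheaf.germ W _ hξW (X.presheaf.map (homOfLE hWV).op (f.app V a)) = _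
    rw [TopCat.Presheaf.germ_res_apply]
  let T : Submonoid Γ(X, W) := p.primeCompl.map σ.toMonoidHom
  have hu : ∀ t : T, IsUnit (gW t) := by
    rintro ⟨_, s, hs, rfl⟩
    show IsUnit (gW (σ s))
    rw [hσ]
    exact (IsLocalization.map_units R (⟨s, hs⟩ : p.primeCompl)).map _
  let χ : Localization T →+* K := IsLocalization.lift hu
  have hχinj : Function.Injective χ := by
    rw [IsLocalization.lift_injective_iff]
    intro a b
    refine ⟨fun h => ?_, fun h => congrArg _ (hgW h)⟩
    have h' := congrArg χ h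
    rwa [IsLocalization.lift_eq, IsLocalization.lift_eq] at h'
  let r : R →+* Localization T := IsLocalization.lift (M := p.primeCompl)
    (g := (algebraMap Γ(X, W) (Localization T)).comp σ)
    fun s => IsLocalization.map_units (Localization T) (⟨σ s, s, s.2, rfl⟩ : T)
  have hr : χ.comp r = algebraMap R K := by
    refine IsLocalization.ringHom_ext p.primeCompl (RingHom.ext fun a => ?_)
    simp only [RingHom.comp_apply, r, IsLocalization.lift_eq, χ]
    exact hσ a
  let C : Subalgebra R K :=
    { χ.range with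
      algebraMap_mem' := fun z => ⟨r z, congr($hr z)⟩ }
  let e : Localization T ≃+* C := RingEquiv.ofBijective (χ.codRestrict C.toSubring fun z => ⟨z, rfl⟩)
    ⟨fun a b h => hχinj (congrArg Subtype.val h), fun c => by
      obtain ⟨z, hz⟩ := c.2
      exact ⟨z, Subtype.ext hz⟩⟩
  have hnf : maximalIdeal R ≠ ⊥ := by
    intro hbot
    apply hne
    have hR : IsField R := IsLocalRing.isField_iff_maximalIdeal_eq.2 hbot
    let := hR.toField
    have hgen : genericPoint Y ∈ Set.range (Y.fromSpecStalk y) := by
      rw [Scheme.range_fromSpecStalk]; exact hspec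
    obtain ⟨q, hq⟩ := hgen
    rw [← hq, show q = (closedPoint R : PrimeSpectrum R) from Subsingleton.elim (α := PrimeSpectrum R) q _]
    exact Scheme.fromSpecStalk_closedPoint.symm
  obtain ⟨a, ham, ha⟩ := (Submodule.ne_bot_iff _).1 hnf
  let J := Ideal.span {algebraMap R C a}
  obtain ⟨-, hart⟩ := isFiniteLength_iff_isNoetherian_isArtinian.mp (H22Alg.quot_finite_length C ha)
  have : IsArtinianRing (C ⧸ J) := isArtinian_of_tower R hart
  let j : Γ(X, W) →+* C ⧸ J := (Ideal.Quotient.mk J).comp (e.toRingHom.comp (algebraMap Γ(X, W) (Localization T)))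
  refine ((Set.finite_range (fun q : PrimeSpectrum (C ⧸ J) => PrimeSpectrum.comap j q)).image
    hW.fromSpec).subset ?_
  rintro x ⟨hxW, hxy⟩
  refine ⟨hW.primeIdealOf ⟨x, hxW⟩, ?_, hW.fromSpec_primeIdealOf _⟩
  let P := (hW.primeIdealOf ⟨x, hxW⟩).asIdeal
  have hPp : P.comap σ = p := by
    refine (congrArg PrimeSpectrum.asIdeal (IsAffineOpen.comap_primeIdealOf_appLE V hV W hW hWV hxW)).trans ?_
    exact congrArg (fun w => (hV.primeIdealOf w).asIdeal) (Subtype.ext hxy)
  have hdisj : Disjoint (T : Set Γ(X, W)) P := by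
    rw [Set.disjoint_left]
    rintro _ ⟨s, hs, rfl⟩ hP
    exact hs (hPp ▸ (hP : s ∈ P.comap σ))
  let PS := P.map (algebraMap Γ(X, W) (Localization T))
  have hPS : PS.IsPrime := IsLocalization.isPrime_of_isPrime_disjoint T _ P inferInstance hdisj
  have hPSP : PS.comap (algebraMap Γ(X, W) (Localization T)) = P :=
    IsLocalization.under_map_of_isPrime_disjoint T _ inferInstance hdisj
  let PC := PS.comap e.symm.toRingHom
  have hJ : J ≤ PC := by
    rw [Ideal.span_singleton_le_iff_mem, Ideal.mem_comap]
    have h1 : e.symm.toRingHom (algebraMap R C a) = r a := e.injective (by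
      show e (e.symm _) = _
      rw [RingEquiv.apply_symm_apply]
      exact Subtype.ext (congr($hr a)).symm)
    rw [h1]
    obtain ⟨⟨b, s⟩, hbs⟩ := IsLocalization.surj p.primeCompl a
    have hb : b ∈ p := by
      rw [← IsLocalization.AtPrime.under_maximalIdeal R p]
      show algebraMap Γ(Y, V) R b ∈ maximalIdeal R
      exact (show _ = algebraMap Γ(Y, V) R b from hbs) ▸ Ideal.mul_mem_right _ _ ham
    have h2 : r a * r (algebraMap Γ(Y, V) R s) ∈ PS := by
      rw [← map_mul, show a * algebraMap Γ(Y, V) R s = algebraMap Γ(Y, V) R b from hbs]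
      simp only [r, IsLocalization.lift_eq, RingHom.comp_apply]
      exact Ideal.mem_map_of_mem _ (show b ∈ P.comap σ from hPp.symm ▸ hb)
    exact (hPS.mem_or_mem h2).resolve_right fun h => hPS.ne_top
      (Ideal.eq_top_of_isUnit_mem _ h ((IsLocalization.map_units R s).map r))
  refine ⟨⟨PC.map (Ideal.Quotient.mk J), Ideal.map_isPrime_of_surjective Ideal.Quotient.mk_surjective
    (by rw [Ideal.mk_ker]; exact hJ)⟩, PrimeSpectrum.ext ?_⟩
  show (PC.map (Ideal.Quotient.mk J)).comap j = P
  have hPC : (PC.map (Ideal.Quotient.mk J)).comap (Ideal.Quotient.mk J) = PC := by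
    rw [Ideal.comap_map_of_surjective _ Ideal.Quotient.mk_surjective, ← RingHom.ker_eq_comap_bot,
      Ideal.mk_ker, sup_of_le_left hJ]
  ext b
  show Ideal.Quotient.mk J (e (algebraMap Γ(X, W) (Localization T) b)) ∈ PC.map (Ideal.Quotient.mk J) ↔ _
  rw [← Ideal.mem_comap, hPC, Ideal.mem_comap]
  show e.symm (e (algebraMap Γ(X, W) (Localization T) b)) ∈ PS ↔ _
  rw [RingEquiv.symm_apply_apply, ← Ideal.mem_comap, hPSP]

end Groth.Agent.H10ZMT
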