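import Groth.Agent.H10ZMT.Basic
import Groth.Agent.H06Conn.ProperCount
import Groth.Agent.H06Geom.SepClosedIn
import Groth.Agent.H06Desc.Geom
import Groth.Agent.H17.Reduced

/-!
# Geometrically connected fibres of proper morphisms with dominating components
-/

set_option autoImplicit false
set_option linter.style.haveILetI false
set_option backward.isDefEq.respectTransparency false

universe u

open CategoryTheory Limits AlgebraicGeometry TopologicalSpace Topology IsLocalRing

namespace Groth.Agent.H10ZMT

variable {X Y : Scheme.{u}} [IsIntegral X] [IsIntegral Y]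

/-- The generic fibre is geometrically connected when `K(Y)` is radicially closed in `K(X)`. -/
theorem nGeomConnComp_genericPoint (f : X ⟶ Y) (hdom : f.base (genericPoint X) ⤳ genericPoint Y)
    (hrad : ∀ x : X.functionField,
      (∃ q : Polynomial Y.functionField, q ≠ 0 ∧
        Polynomial.eval₂ (CohIII.stalkToFunctionField f (genericPoint Y) hdom) x q = 0) →
      ∃ e : ℕ, x ^ (ringExpChar X.functionField ^ e) ∈
        Set.range (CohIII.stalkToFunctionField f (genericPoint Y) hdom)) :
    MoreMor.nGeomConnComp f (genericPoint Y) = 1 := by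
  let F := Y.functionField
  let K := X.functionField
  let φ := CohIII.stalkToFunctionField f (genericPoint Y) hdom
  letI : Algebra F K := φ.toAlgebra
  have hbot : separableClosure F K = ⊥ := by
    refine eq_bot_iff.2 fun a ha => ?_
    have hsep : IsSeparable F a := mem_separableClosure_iff.1 ha
    obtain ⟨e, c, hc⟩ := hrad a ⟨minpoly F a, minpoly.ne_zero hsep.isIntegral, minpoly.aeval F a⟩
    haveI : ExpChar K (ringExpChar K) := inferInstance
    haveI : ExpChar F (ringExpChar K) := φ.expChar φ.injective _
    rw [IntermediateField.mem_bot]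
    have h1 := IntermediateField.adjoin_simple_eq_adjoin_pow_expChar_pow_of_isSeparable F K hsep (ringExpChar K) e
    have h2 : a ∈ IntermediateField.adjoin F {a ^ ringExpChar K ^ e} := h1 ▸ IntermediateField.mem_adjoin_simple_self F a
    rw [IntermediateField.adjoin_simple_eq_bot_iff.2 (IntermediateField.mem_bot.2 ⟨c, hc⟩)] at h2
    exact IntermediateField.mem_bot.1 h2
  haveI := H06Geom.geometricallyConnected_Spec hbot
  let a0 : Spec (CommRingCat.of F) ⟶ Y := Y.fromSpecStalk (genericPoint Y)
  let Z := pullback f a0
  have hcomm : X.fromSpecStalk (genericPoint X) ≫ f = Spec.map (CommRingCat.ofHom (algebraMap F K)) ≫ a0 := by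
    rw [← Scheme.SpecMap_stalkMap_fromSpecStalk,
      ← Scheme.SpecMap_stalkSpecializes_fromSpecStalk hdom, ← Spec.map_comp_assoc]
    rfl
  let g : Spec (CommRingCat.of K) ⟶ Z := pullback.lift (X.fromSpecStalk (genericPoint X))
    (Spec.map (CommRingCat.ofHom (algebraMap F K))) hcomm
  haveI : IsPreimmersion a0 := inferInstanceAs (IsPreimmersion (Y.fromSpecStalk (genericPoint Y)))
  haveI : IsPreimmersion (pullback.fst f a0) := inferInstance
  have hrange : Set.range (pullback.fst f a0) = f ⁻¹' {genericPoint Y} := by
    rw [Scheme.Pullback.range_fst]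
    congr 1
    show Set.range (Y.fromSpecStalk (genericPoint Y)) = _
    rw [Scheme.range_fromSpecStalk]
    ext z
    exact ⟨fun hz => ((hz.antisymm ((genericPoint_spec Y).specializes (Set.mem_univ z))).eq :),
      fun hz => (Set.mem_singleton_iff.1 hz) ▸ specializes_rfl⟩
  haveI : ConnectedSpace ↥Z := by
    have hc : _root_.IsConnected (f ⁻¹' {genericPoint Y}) :=
      (isConnected_singleton (x := genericPoint X)).subset_closure
        (Set.singleton_subset_iff.2 (apply_genericPoint f hdom))
        fun z _ => ((genericPoint_spec X).specializes (Set.mem_univ z)).mem_closure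
    rw [connectedSpace_iff_univ]
    obtain ⟨z, hz⟩ := hrange.ge (apply_genericPoint f hdom : genericPoint X ∈ f ⁻¹' {genericPoint Y})
    refine ⟨⟨z, trivial⟩, ?_⟩
    rw [← (pullback.fst f a0).isEmbedding.isInducing.isPreconnected_image, Set.image_univ, hrange]
    exact hc.2
  haveI : GeometricallyConnected (g ≫ pullback.snd f a0) := by
    rw [pullback.lift_snd]; infer_instance
  haveI := H06Desc.geometricallyConnected_of_source g (pullback.snd f a0)
  let Ω := AlgebraicClosure F
  let s : Spec (CommRingCat.of Ω) ⟶ Spec (CommRingCat.of F) := Spec.map (CommRingCat.ofHom (algebraMap F Ω))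
  haveI : ConnectedSpace ↥(pullback (pullback.snd f a0) s) :=
    GeometricallyConnected.geometrically_connectedSpace _ _ _ (IsPullback.of_hasPullback _ s)
  have h1 : (s ≫ a0) (closedPoint Ω) = genericPoint Y := by
    rw [Scheme.Hom.comp_apply, show s (closedPoint Ω) = closedPoint F from Subsingleton.elim (α := PrimeSpectrum F) _ _]
    exact Scheme.fromSpecStalk_closedPoint
  rw [← (H7Flat.GeomInt.nGeom_eq f (s ≫ a0) h1).2,
    ← H7Flat.GeomInt.card_connectedComponents_congr (pullbackLeftPullbackSndIso f a0 s).hom.homeomorph]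
  exact H7Flat.GeomInt.connectedSpace_iff_card.1 inferInstance

omit [IsIntegral X] in
/-- Proper morphisms whose base changes have only dominating components: a geometrically connected
generic fibre makes all fibres geometrically connected. -/
theorem nGeomConnComp_eq_one (f : X ⟶ Y) [IsProper f] [IsLocallyNoetherian Y]
    (hopen : ∀ (Y' : Scheme.{u}) (g : Y' ⟶ Y), IrreducibleSpace ↥Y' → IsLocallyNoetherian Y' →
      IsDominant g → ∀ Z ∈ irreducibleComponents ↥(pullback f g), Dense ((pullback.snd f g).base '' Z))
    (hsurj : Function.Surjective f) (hgen : MoreMor.nGeomConnComp f (genericPoint Y) = 1) (y : Y) :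
    MoreMor.nGeomConnComp f y = 1 := by
  rcases eq_or_ne (genericPoint Y) y with rfl | hne
  · exact hgen
  have hspec : genericPoint Y ⤳ y := (genericPoint_spec Y).specializes (Set.mem_univ y)
  obtain ⟨A, _, _, _, g, hg, hg', hy, -⟩ := H06Conn.exists_splitting_dvr f hspec hne
  let q := pullback.snd f g
  let e : ∀ {T : Scheme.{u}} (ι : T ⟶ Spec (CommRingCat.of A)), pullback q ι ≅ pullback f (ι ≫ g) :=
    fun ι => pullbackLeftPullbackSndIso f g ι
  haveI : IrreducibleSpace ↥(Spec (CommRingCat.of A)) := inferInstanceAs (IrreducibleSpace (PrimeSpectrum A))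
  haveI : IsNoetherianRing (CommRingCat.of A) := inferInstanceAs (IsNoetherianRing A)
  haveI : IsDominant g := ⟨fun z => closure_mono
    (Set.singleton_subset_iff.2 (Set.mem_range.2 ⟨_, hg'⟩))
    ((genericPoint_spec Y).specializes (Set.mem_univ z)).mem_closure⟩
  have hgenq : H06Conn.HasGenericGenerization q := by
    intro x
    obtain ⟨Z, hZ, hxZ⟩ : ∃ Z ∈ irreducibleComponents ↥(pullback f g), x ∈ Z :=
      ⟨irreducibleComponent x, irreducibleComponent_mem_irreducibleComponents x, mem_irreducibleComponent⟩
    have hζ := hZ.1.isGenericPoint_genericPoint (isClosed_of_mem_irreducibleComponents Z hZ)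
    refine ⟨hZ.1.genericPoint, hζ.specializes hxZ, ?_⟩
    have hd := hopen _ g inferInstance inferInstance inferInstance Z hZ
    have hsub : q '' Z ⊆ closure {q hZ.1.genericPoint} := by
      rintro _ ⟨z, hz, rfl⟩
      exact ((hζ.specializes hz).map q.continuous).mem_closure
    have h1 : (⟨⊥, Ideal.isPrime_bot⟩ : PrimeSpectrum A) ∈ closure {q hZ.1.genericPoint} :=
      closure_minimal hsub isClosed_closure (hd _)
    have h2 : (q hZ.1.genericPoint : PrimeSpectrum A) ⤳ ⟨⊥, Ideal.isPrime_bot⟩ := specializes_iff_mem_closure.2 h1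
    exact PrimeSpectrum.ext (le_bot_iff.1 ((PrimeSpectrum.le_iff_specializes _ _).2 h2))
  let P := H06Conn.genPt (A := A)
  haveI hgc : ConnectedSpace ↥(pullback q P) := by
    rw [H7Flat.GeomInt.connectedSpace_iff_card,
      H7Flat.GeomInt.card_connectedComponents_congr (e P).hom.homeomorph,
      (H7Flat.GeomInt.nGeom_eq f (P ≫ g) (y := genericPoint Y)
        (by rw [Scheme.Hom.comp_apply, H06Conn.genPt_apply, hg'])).2, hgen]
  let T := (Scheme.IdealSheafData.vanishingIdeal ⟨(Set.univ : Set ↥(pullback f g)), isClosed_univ⟩)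
  let i := T.subschemeι
  haveI : IsReduced T.subscheme := H17.isReduced_vanishingIdeal_subscheme _
  haveI : Surjective i := ⟨fun x => by
    have : Set.range i = Set.univ := by
      rw [Scheme.IdealSheafData.range_subschemeι, Scheme.IdealSheafData.coe_support_vanishingIdeal]; rfl
    exact this.ge trivial⟩
  haveI : IsProper q := inferInstance
  haveI : IsProper (i ≫ q) := inferInstance
  have hgen' : H06Conn.HasGenericGenerization (i ≫ q) := by
    intro u
    obtain ⟨η, hη, hqη⟩ := hgenq (i u)
    obtain ⟨η', rfl⟩ := i.surjective η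
    exact ⟨η', i.isClosedEmbedding.isInducing.specializes_iff.mp hη, hqη⟩
  haveI : ConnectedSpace ↥(pullback (i ≫ q) P) := by
    let p := pullback.snd i (pullback.fst q P)
    haveI : Surjective p := MorphismProperty.pullback_snd i _ ‹Surjective i›
    refine (pullbackRightPullbackFstIso q P i).hom.homeomorph.connectedSpace_iff.mp ?_
    exact ((Equiv.ofBijective p ⟨p.isClosedEmbedding.injective, p.surjective⟩).toHomeomorphOfIsInducing
      p.isClosedEmbedding.isInducing).connectedSpace_iff.2 hgc
  have hpre := H06Conn.isPreconnected_closedFibre (i ≫ q) hgen'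
  have hfib : _root_.IsPreconnected (q ⁻¹' {(closedPoint A : Spec (CommRingCat.of A))}) := by
    have := hpre.image i i.continuous.continuousOn
    rwa [Scheme.Hom.comp_base, TopCat.coe_comp, Set.preimage_comp,
      Set.image_preimage_eq _ i.surjective] at this
  have hle : ENat.card (_root_.ConnectedComponents ↥(pullback q (H06Conn.closedι (A := A)))) ≤ 1 := by
    let ιS := pullback.fst q (H06Conn.closedι (A := A))
    have hιS : Set.range ιS = q ⁻¹' {(closedPoint A : Spec (CommRingCat.of A))} := by
      rw [Scheme.Pullback.range_fst]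
      congr 1
      exact Set.eq_singleton_iff_unique_mem.mpr ⟨⟨closedPoint _, H06Conn.closedι_apply _⟩,
        by rintro _ ⟨p, rfl⟩; exact H06Conn.closedι_apply p⟩
    haveI : PreconnectedSpace ↥(pullback q (H06Conn.closedι (A := A))) := ⟨by
      rw [← ιS.isClosedEmbedding.isInducing.isPreconnected_image, Set.image_univ, hιS]
      exact hfib⟩
    exact (ENat.card_le_one_iff_subsingleton _).2 inferInstance
  refine le_antisymm (hy.trans ?_) ?_
  · rwa [← H7Flat.GeomInt.card_connectedComponents_congr (e (H06Conn.closedι (A := A))).hom.homeomorph]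
  · let Ω := AlgebraicClosure (Y.residueField y)
    let a : Spec (CommRingCat.of Ω) ⟶ Y :=
      Spec.map (CommRingCat.ofHom (algebraMap (Y.residueField y) Ω)) ≫ Y.fromSpecResidueField y
    have ha : a (closedPoint Ω) = y :=
      (Scheme.Hom.comp_apply _ _ _).trans (Scheme.fromSpecResidueField_apply _ _)
    rw [← (H7Flat.GeomInt.nGeom_eq f a (y := y)
      ha).2, ENat.one_le_card_iff_nonempty]
    obtain ⟨x, hx⟩ := hsurj y
    obtain ⟨z, -, -⟩ := Scheme.Pullback.exists_preimage_pullback (f := f) (g := a) x (closedPoint Ω)
      (hx.trans ha.symm)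
    exact ⟨ConnectedComponents.mk z⟩

end Groth.Agent.H10ZMT
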