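import Groth.Agent.H10ZMT.Stein

/-!
# Direct images of structure sheaves near normal points
-/

set_option autoImplicit false
set_option backward.isDefEq.respectTransparency false

universe u

open CategoryTheory Limits AlgebraicGeometry TopologicalSpace Opposite

namespace Groth.Agent.H10ZMT

variable {X Y : Scheme.{u}}

/-- Sections of a proper morphism over an affine open of a locally Noetherian scheme form a finite module. -/
theorem finite_app_of_isProper (f : X ⟶ Y) [IsProper f] [IsLocallyNoetherian Y] (V : Y.Opens)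
    (hV : IsAffineOpen V) : (f.app V).hom.Finite := by
  have hfin : IsFinite f.fromNormalization := Groth.Agent.S1297.result f
  suffices H : ∀ g : X ⟶ Y, g = f.toNormalization ≫ f.fromNormalization → (g.app V).hom.Finite from
    H f f.toNormalization_fromNormalization.symm
  rintro g rfl
  rw [Scheme.Hom.comp_app, CommRingCat.hom_comp]
  have := isIso_app_toNormalization f (f.fromNormalization ⁻¹ᵁ V)
  exact (RingHom.Finite.of_surjective _ (ConcreteCategory.bijective_of_isIso
    (f.toNormalization.app (f.fromNormalization ⁻¹ᵁ V))).2).comp (f.fromNormalization.finite_app V hV)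

variable [IsIntegral X] [IsIntegral Y]

/-- Near a normal point of the base, with `K(Y)` algebraically closed in `K(X)`, functions come from
the base. -/
theorem exists_affine_bijective_app (f : X ⟶ Y) [IsProper f] [IsLocallyNoetherian Y]
    (hdom : f.base (genericPoint X) ⤳ genericPoint Y)
    (halg : ∀ x : X.functionField,
      (∃ p : Polynomial Y.functionField, p ≠ 0 ∧
        Polynomial.eval₂ (CohIII.stalkToFunctionField f (genericPoint Y) hdom) x p = 0) →
      x ∈ Set.range (CohIII.stalkToFunctionField f (genericPoint Y) hdom))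
    (y : Y) (hy : IsIntegrallyClosed (Y.presheaf.stalk y)) :
    ∃ U : Y.Opens, IsAffineOpen U ∧ y ∈ U ∧ Function.Bijective (f.app U) := by
  obtain ⟨_, ⟨V, hV, rfl⟩, hyV, -⟩ :=
    Y.isBasis_affineOpens.exists_subset_of_mem_open (Set.mem_univ y) isOpen_univ
  have : Nonempty V := ⟨⟨y, hyV⟩⟩
  have hη : genericPoint Y ∈ V :=
    ((genericPoint_spec Y).mem_open_set_iff V.2).mpr ⟨y, trivial, hyV⟩
  have hgen := apply_genericPoint f hdom
  have hξ : genericPoint X ∈ f ⁻¹ᵁ V := by
    show f.base (genericPoint X) ∈ V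
    rw [hgen]; exact hη
  let φ := CohIII.stalkToFunctionField f (genericPoint Y) hdom
  let gY := (Y.presheaf.germ V (genericPoint Y) hη).hom
  let gX := (X.presheaf.germ (f ⁻¹ᵁ V) (genericPoint X) hξ).hom
  have hgX : Function.Injective gX := germ_injective_of_isIntegral X _ hξ
  have hgY : Function.Injective gY := germ_injective_of_isIntegral Y _ hη
  have hnat : ∀ a, φ (gY a) = gX (f.app V a) := stalkToFunctionField_germ f hdom V hη hξ
  have hinj : Function.Injective (f.app V) := fun a a' h => hgY (φ.injective (by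
    rw [hnat, hnat, h]))
  let sp : Y.presheaf.stalk y →+* Y.functionField :=
    (Y.presheaf.stalkSpecializes ((genericPoint_spec Y).specializes (Set.mem_univ y))).hom
  let : Algebra (Y.presheaf.stalk y) Y.functionField := sp.toAlgebra
  have : IsFractionRing (Y.presheaf.stalk y) Y.functionField :=
    instIsFractionRingCarrierStalkCommRingCatPresheafFunctionField Y y
  let := TopCat.Presheaf.algebra_section_stalk Y.presheaf (⟨y, hyV⟩ : V)
  have := hV.isLocalization_stalk ⟨y, hyV⟩
  let p := (hV.primeIdealOf ⟨y, hyV⟩).asIdeal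
  have hspg : ∀ a : Γ(Y, V), sp (Y.presheaf.germ V y hyV a) = gY a := fun a =>
    congr($(Y.presheaf.germ_stalkSpecializes hyV _) a)
  have key : ∀ b : Γ(X, f ⁻¹ᵁ V), ∃ s ∉ p, ∃ a, f.app V a = f.app V s * b := by
    intro b
    obtain ⟨P, hP, hP'⟩ := isIntegral_app f V hV b
    have hcomp : φ.comp gY = gX.comp (f.app V).hom := RingHom.ext hnat
    obtain ⟨z, hz⟩ := halg (gX b) ⟨P.map gY, (hP.map _).ne_zero, by
      rw [Polynomial.eval₂_map, hcomp, ← Polynomial.hom_eval₂, hP', map_zero]⟩
    have hzint : _root_.IsIntegral (Y.presheaf.stalk y) z := by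
      refine ⟨P.map (Y.presheaf.germ V y hyV).hom, hP.map _, φ.injective ?_⟩
      rw [Polynomial.eval₂_map, Polynomial.hom_eval₂, map_zero,
        show φ z = gX b from hz]
      have : φ.comp ((algebraMap (Y.presheaf.stalk y) Y.functionField).comp
          (Y.presheaf.germ V y hyV).hom) = gX.comp (f.app V).hom :=
        RingHom.ext fun a => (congrArg φ (hspg a)).trans (hnat a)
      rw [this, ← Polynomial.hom_eval₂, hP', map_zero]
    obtain ⟨w, hw⟩ := IsIntegrallyClosed.isIntegral_iff.1 hzint
    obtain ⟨⟨a, s⟩, has⟩ := IsLocalization.surj p.primeCompl (w : Y.presheaf.stalk y)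
    refine ⟨s.1, s.2, a, hgX ?_⟩
    rw [← hnat a, map_mul, ← hnat s.1, ← show φ z = gX b from hz, ← map_mul, mul_comm]
    refine congrArg φ ?_
    rw [← hw, ← hspg a, ← hspg s.1]
    exact ((congrArg sp has).symm.trans (map_mul sp w _))
  algebraize [(f.app V).hom]
  have : Module.Finite Γ(Y, V) Γ(X, f ⁻¹ᵁ V) := finite_app_of_isProper f V hV
  obtain ⟨G, hG⟩ := Module.Finite.fg_top (R := Γ(Y, V)) (M := Γ(X, f ⁻¹ᵁ V))
  choose s hs a ha using key
  let t : Γ(Y, V) := ∏ b ∈ G, s b
  have htp : t ∉ p := fun h => by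
    obtain ⟨b, -, hb⟩ := ((inferInstance : p.IsPrime).prod_mem_iff).1 h
    exact hs b hb
  have ht : ∀ b, ∃ c, f.app V c = f.app V t * b := by
    intro b
    have hb : b ∈ Submodule.span Γ(Y, V) (G : Set Γ(X, f ⁻¹ᵁ V)) := hG ▸ trivial
    induction hb using Submodule.span_induction with
    | mem x hx =>
      obtain ⟨d, hd⟩ : s x ∣ t := Finset.dvd_prod_of_mem _ hx
      exact ⟨d * a x, by rw [map_mul, ha, hd, map_mul]; ring⟩
    | zero => exact ⟨0, by rw [map_zero, mul_zero]⟩
    | add x y _ _ hx hy =>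
      obtain ⟨c, hc⟩ := hx
      obtain ⟨d, hd⟩ := hy
      exact ⟨c + d, by rw [map_add, hc, hd, mul_add]⟩
    | smul r x _ hx =>
      obtain ⟨c, hc⟩ := hx
      refine ⟨r * c, ?_⟩
      rw [map_mul, hc]
      show _ = _ * ((f.app V) r * x)
      ring
  refine ⟨Y.basicOpen t, hV.basicOpen t, ?_, ?_⟩
  · by_contra hcon
    rw [Y.mem_basicOpen _ y hyV] at hcon
    have h1 : ¬ IsUnit (algebraMap Γ(Y, V) (Y.presheaf.stalk y) t) := hcon
    exact h1 (IsLocalization.map_units (Y.presheaf.stalk y) (⟨t, htp⟩ : p.primeCompl))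
  have := hV.isLocalization_basicOpen t
  have := isLocalization_basicOpen_of_qcqs (f.isCompact_preimage hV.isCompact)
    (f.isQuasiSeparated_preimage hV.isQuasiSeparated) (f.app V t)
  suffices H : Function.Bijective (f.appLE (Y.basicOpen t) (X.basicOpen (f.app V t))
      (le_of_eq (Scheme.preimage_basicOpen f t).symm)) by
    have : ∀ (W : X.Opens) (hW : W = f ⁻¹ᵁ Y.basicOpen t),
        Function.Bijective (f.appLE (Y.basicOpen t) W hW.le) → Function.Bijective (f.app (Y.basicOpen t)) := by
      rintro W rfl hW'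
      rwa [← f.app_eq_appLE] at hW'
    exact this _ (Scheme.preimage_basicOpen f t).symm H
  let ψ := f.appLE (Y.basicOpen t) (X.basicOpen (f.app V t)) (le_of_eq (Scheme.preimage_basicOpen f t).symm)
  have hψ : ∀ c, ψ (algebraMap Γ(Y, V) Γ(Y, Y.basicOpen t) c) =
      algebraMap Γ(X, f ⁻¹ᵁ V) Γ(X, X.basicOpen (f.app V t)) (f.app V c) := by
    intro c
    show (Y.presheaf.map (homOfLE (Y.basicOpen_le t)).op ≫ f.appLE _ _ _) c = _
    rw [Scheme.Hom.map_appLE, Scheme.Hom.appLE, CommRingCat.comp_apply]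
    rfl
  have hlmap : ψ.hom = IsLocalization.map (T := Submonoid.powers (f.app V t))
      Γ(X, X.basicOpen (f.app V t)) (f.app V).hom (Submonoid.powers_le.2 ⟨1, pow_one _⟩) := by
    refine IsLocalization.ringHom_ext (Submonoid.powers t) ?_
    ext c
    rw [RingHom.comp_apply, RingHom.comp_apply, IsLocalization.map_eq]
    exact hψ c
  refine ⟨?_, fun z => ?_⟩
  · show Function.Injective ψ.hom
    rw [hlmap, injective_iff_map_eq_zero]
    intro z hz
    obtain ⟨c, m, rfl⟩ := IsLocalization.exists_mk'_eq (Submonoid.powers t) z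
    rw [IsLocalization.map_mk', IsLocalization.mk'_eq_zero_iff] at hz
    obtain ⟨⟨_, n, rfl⟩, hn⟩ := hz
    refine (IsLocalization.mk'_eq_zero_iff c m).2 ⟨⟨t ^ n, n, rfl⟩, hinj ?_⟩
    rw [map_mul, map_pow, map_zero]
    exact hn
  · obtain ⟨b, ⟨_, n, rfl⟩, rfl⟩ := IsLocalization.exists_mk'_eq (Submonoid.powers (f.app V t)) z
    obtain ⟨c, hc⟩ := ht b
    refine ⟨IsLocalization.mk' Γ(Y, Y.basicOpen t) c (⟨t ^ (n + 1), n + 1, rfl⟩ : Submonoid.powers t), ?_⟩
    show ψ.hom _ = _
    rw [hlmap, IsLocalization.map_mk', IsLocalization.mk'_eq_iff_eq]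
    congr 1
    show f.app V t ^ n * f.app V c = f.app V (t ^ (n + 1)) * b
    rw [hc, map_pow, pow_succ]; ring

end Groth.Agent.H10ZMT
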