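import Groth.Agent.H10ZMT.Unibranch
import Mathlib.FieldTheory.SeparableDegree

/-!
# Maximal ideals of the integral closure of a unibranch domain and the separable degree
-/

set_option autoImplicit false
set_option backward.isDefEq.respectTransparency false

universe u

open Polynomial IsLocalRing

namespace Groth.Agent.H10ZMT

/-- Over a local ring whose integral closure in `F` is local, the maximal ideals of the integral closure
in an algebraic extension `L/F` are parametrised by the embeddings of `L`. -/
theorem exists_surjective_emb_maximalSpectrum {R F L : Type u} [CommRing R] [IsLocalRing R] [Field F]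
    [Field L] [Algebra R F] [Algebra R L] [Algebra F L] [IsScalarTower R F L] [Algebra.IsAlgebraic F L]
    [IsLocalRing (integralClosure R F)] [Finite (Field.Emb F L)] :
    ∃ Φ : Field.Emb F L → MaximalSpectrum (integralClosure R L), Function.Surjective Φ := by
  classical
  let Ω := AlgebraicClosure L
  let D := integralClosure R F
  let C := integralClosure R L
  let N := integralClosure R Ω
  obtain ⟨P₀, hP₀⟩ := Ideal.exists_maximal N
  let θ : Field.Emb F L → (C →ₐ[R] N) := fun ι => ((ι : L →ₐ[F] Ω).restrictScalars R).mapIntegralClosure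
  have hmax : ∀ (ι : Field.Emb F L) (P : Ideal N), P.IsMaximal → (P.comap (θ ι).toRingHom).IsMaximal := by
    intro ι P hP
    have : (P.comap (θ ι).toRingHom).IsPrime := Ideal.IsPrime.comap _
    refine Ideal.isMaximal_of_isIntegral_of_isMaximal_comap (R := R) _ ?_
    rw [Ideal.comap_comap, show (θ ι).toRingHom.comp (algebraMap R C) = algebraMap R N from (θ ι).comp_algebraMap]
    exact Ideal.isMaximal_comap_of_isIntegral_of_isMaximal P
  refine ⟨fun ι => ⟨P₀.comap (θ ι).toRingHom, hmax ι P₀ hP₀⟩, fun M => ?_⟩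
  by_contra hcon
  push Not at hcon
  have := Fintype.ofFinite (Field.Emb F L)
  have hnot : ¬ (M.asIdeal : Set C) ⊆ ⋃ i ∈ ((Finset.univ : Finset (Field.Emb F L)) : Set _),
      (P₀.comap (θ i).toRingHom : Set C) := by
    rw [Ideal.subset_union_prime default default fun i _ _ _ => (hmax i P₀ hP₀).isPrime]
    rintro ⟨i, -, hi⟩
    exact hcon i (MaximalSpectrum.ext (M.isMaximal.eq_of_le (hmax i P₀ hP₀).ne_top hi).symm)
  obtain ⟨x, hxM, hx⟩ := Set.not_subset.1 hnot
  simp only [Finset.coe_univ, Set.mem_univ, Set.iUnion_true, Set.mem_iUnion, not_exists] at hx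
  -- a maximal ideal of `N` over `M`
  let ι₀ : Field.Emb F L := IsScalarTower.toAlgHom F L Ω
  obtain ⟨PM, hPM, hPMc⟩ : ∃ PM : Ideal N, PM.IsMaximal ∧ PM.comap (θ ι₀).toRingHom = M.asIdeal := by
    algebraize [(θ ι₀).toRingHom]
    have : IsScalarTower R C N := .of_algebraMap_eq fun r => ((θ ι₀).commutes r).symm
    have : Algebra.IsIntegral C N := Algebra.IsIntegral.tower_top R
    have := M.isMaximal
    obtain ⟨Q, hQ, hQc⟩ := Ideal.exists_ideal_over_prime_of_isIntegral_of_isDomain (S := N) M.asIdeal (by
      rw [(RingHom.injective_iff_ker_eq_bot (algebraMap C N)).1]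
      · exact bot_le
      · exact fun a b hab => Subtype.ext ((ι₀ : L →ₐ[F] Ω).injective (congrArg Subtype.val hab)))
    have hQc' : Q.comap (algebraMap C N) = M.asIdeal := hQc
    exact ⟨Q, Ideal.isMaximal_of_isIntegral_of_isMaximal_comap Q (hQc'.symm ▸ M.isMaximal), hQc'⟩
  -- all roots of the minimal polynomial are integral
  have hxint : IsIntegral F (x : L) := Algebra.IsIntegral.isIntegral _
  let q := (minpoly F (x : L)).map (algebraMap F Ω)
  have hroots : ∀ r ∈ q.roots, ∃ ι : Field.Emb F L, ((θ ι) x : Ω) = r := by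
    intro r hr
    have : r ∈ (minpoly F (x : L)).rootSet Ω := by
      rw [Polynomial.rootSet_def, Finset.mem_coe, Multiset.mem_toFinset]
      exact hr
    rw [← Algebra.IsAlgebraic.range_eval_eq_rootSet_minpoly Ω] at this
    obtain ⟨ι, hι⟩ := this
    exact ⟨ι, hι⟩
  choose e he using hroots
  let S : Multiset N := q.roots.attach.map fun r => θ (e r.1 r.2) x
  have hS : S.map (N.val : N → Ω) = q.roots := by
    rw [Multiset.map_map]
    conv_rhs => rw [← q.roots.attach_map_val]
    exact Multiset.map_congr rfl fun r _ => he r.1 r.2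
  let c : F := (minpoly F (x : L)).coeff 0
  have hc : algebraMap F Ω c = (-1) ^ q.natDegree * ((S.prod : N) : Ω) := by
    rw [show ((S.prod : N) : Ω) = q.roots.prod from hS ▸ map_multiset_prod N.val S]
    rw [← (IsAlgClosed.splits q).coeff_zero_eq_prod_roots_of_monic ((minpoly.monic hxint).map _)]
    exact (Polynomial.coeff_map _ 0).symm
  have hcint : IsIntegral R c := by
    rw [← isIntegral_algebraMap_iff (algebraMap F Ω).injective, hc]
    exact (isIntegral_one.neg.pow _).mul S.prod.2
  let d : D := ⟨c, hcint⟩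
  let μ : D →ₐ[R] N := (IsScalarTower.toAlgHom R F Ω).mapIntegralClosure
  have hμ : μ d = (-1) ^ q.natDegree * S.prod := Subtype.ext (by
    refine hc.trans ?_
    simp)
  have hcontr : ∀ P : Ideal N, P.IsMaximal → P.comap μ.toRingHom = maximalIdeal D := by
    intro P hP
    refine eq_maximalIdeal ?_
    have : (P.comap μ.toRingHom).IsPrime := Ideal.IsPrime.comap _
    refine Ideal.isMaximal_of_isIntegral_of_isMaximal_comap (R := R) _ ?_
    rw [Ideal.comap_comap, show μ.toRingHom.comp (algebraMap R D) = algebraMap R N from μ.comp_algebraMap]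
    exact Ideal.isMaximal_comap_of_isIntegral_of_isMaximal P
  -- the constant coefficient lies in every maximal ideal over `D`
  have hxPM : θ ι₀ x ∈ PM := by rw [← hPMc] at hxM; exact hxM
  have hmem : (x : L) ∈ Set.univ := trivial
  have hι₀ : ((ι₀ : L →ₐ[F] Ω) (x : L)) ∈ q.roots := by
    rw [Polynomial.mem_roots ((minpoly.monic hxint).map _).ne_zero, Polynomial.IsRoot,
      Polynomial.eval_map, ← Polynomial.aeval_def, Polynomial.aeval_algHom_apply, minpoly.aeval, map_zero]
  have hdPM : μ d ∈ PM := by
    rw [hμ]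
    refine PM.mul_mem_left _ ?_
    have hmemS : θ ι₀ x ∈ S := by
      refine Multiset.mem_map.2 ⟨⟨_, hι₀⟩, Multiset.mem_attach _ _, Subtype.ext ?_⟩
      exact he _ hι₀
    obtain ⟨T, hT⟩ := Multiset.exists_cons_of_mem hmemS
    rw [hT, Multiset.prod_cons]
    exact PM.mul_mem_right _ hxPM
  have hd : d ∈ maximalIdeal D := by rw [← hcontr PM hPM]; exact hdPM
  rw [← hcontr P₀ hP₀] at hd
  have hd' : S.prod ∈ P₀ := by
    have : μ d ∈ P₀ := hd
    rw [hμ] at this
    exact (Ideal.unit_mul_mem_iff_mem _ ((isUnit_one.neg).pow _)).1 this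
  obtain ⟨s, hsS, hs⟩ := (hP₀.isPrime.multiset_prod_mem_iff_exists_mem S).1 hd'
  obtain ⟨r, -, rfl⟩ := Multiset.mem_map.1 hsS
  exact hx _ hs

end Groth.Agent.H10ZMT
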