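import Groth.Agent.H10ZMT.FibrePrimes
import Groth.Prelude.Def_CAlg2

/-!
# Unibranch points and purely inseparable function field extensions
-/

set_option autoImplicit false
set_option backward.isDefEq.respectTransparency false

universe u

open CategoryTheory Limits AlgebraicGeometry TopologicalSpace Opposite IsLocalRing

namespace Groth.Agent.H10ZMT

/-- For a unibranch domain the integral closure in any fraction field is local. -/
theorem isLocalRing_integralClosure {A F : Type u} [CommRing A] [IsDomain A] [IsLocalRing A] [Field F]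
    [Algebra A F] [IsFractionRing A F] (h : CAlg2.IsUnibranch A) : IsLocalRing (integralClosure A F) := by
  have hbot : nilradical A = ⊥ := nilradical_eq_zero A
  have := h.1
  have := h.2
  let e : A ≃+* CAlg2.red A := RingEquiv.ofBijective (Ideal.Quotient.mk (nilradical A))
    ⟨(RingHom.injective_iff_ker_eq_bot _).2 (by rw [Ideal.mk_ker, hbot]), Ideal.Quotient.mk_surjective⟩
  let E : F ≃+* FractionRing (CAlg2.red A) := IsFractionRing.ringEquivOfRingEquiv e
  have hE : ∀ a, E (algebraMap A F a) = algebraMap _ (FractionRing (CAlg2.red A)) (e a) :=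
    IsFractionRing.ringEquivOfRingEquiv_algebraMap e
  have hmem : ∀ x : CAlg2.normRed A, E.symm (x : FractionRing (CAlg2.red A)) ∈ integralClosure A F := by
    rintro ⟨x, P, hP, hP'⟩
    refine ⟨P.map (e.symm : CAlg2.red A →+* A), hP.map _, ?_⟩
    rw [Polynomial.eval₂_map, show (algebraMap A F).comp (e.symm : CAlg2.red A →+* A) =
      (E.symm : FractionRing (CAlg2.red A) →+* F).comp (algebraMap (CAlg2.red A) _) from RingHom.ext fun a => by
        show algebraMap A F (e.symm a) = E.symm (algebraMap (CAlg2.red A) _ a)
        rw [RingEquiv.eq_symm_apply, hE, RingEquiv.apply_symm_apply]]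
    exact (Polynomial.hom_eval₂ P _ (E.symm : FractionRing (CAlg2.red A) →+* F) x).symm.trans
      ((congrArg _ hP').trans (map_zero _))
  let Φ : CAlg2.normRed A →+* integralClosure A F :=
    ((E.symm : FractionRing (CAlg2.red A) →+* F).comp
      (integralClosure (CAlg2.red A) (FractionRing (CAlg2.red A))).val.toRingHom).codRestrict
      (integralClosure A F).toSubring hmem
  refine IsLocalRing.of_surjective' Φ fun y => ?_
  obtain ⟨P, hP, hP'⟩ := y.2
  refine ⟨⟨E y.1, P.map (e : A →+* CAlg2.red A), hP.map _, ?_⟩, Subtype.ext (E.symm_apply_apply y.1)⟩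
  rw [Polynomial.eval₂_map, show (algebraMap _ (FractionRing (CAlg2.red A))).comp (e : A →+* CAlg2.red A) =
    (E : F →+* FractionRing (CAlg2.red A)).comp (algebraMap A F) from RingHom.ext fun a => (hE a).symm]
  exact (Polynomial.hom_eval₂ P _ (E : F →+* FractionRing (CAlg2.red A)) y.1).symm.trans
    ((congrArg _ hP').trans (map_zero _))

/-- A radicial integral extension of a local ring has at most one maximal ideal. -/
theorem subsingleton_maximalSpectrum {D C : Type u} [CommRing D] [CommRing C] [IsLocalRing D]
    [Algebra D C] [Algebra.IsIntegral D C]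
    (h : ∀ c : C, ∃ (n : ℕ), 0 < n ∧ ∃ d, algebraMap D C d = c ^ n) : Subsingleton (MaximalSpectrum C) := by
  refine ⟨fun M N => MaximalSpectrum.ext ?_⟩
  suffices H : ∀ M N : MaximalSpectrum C, M.asIdeal ≤ N.asIdeal from le_antisymm (H M N) (H N M)
  intro M N c hc
  obtain ⟨n, hn, d, hd⟩ := h c
  have : ∀ P : MaximalSpectrum C, P.asIdeal.comap (algebraMap D C) = maximalIdeal D := fun P => by
    have := P.isMaximal
    exact eq_maximalIdeal (Ideal.isMaximal_comap_of_isIntegral_of_isMaximal P.asIdeal)
  have hdM : d ∈ M.asIdeal.comap (algebraMap D C) := by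
    rw [Ideal.mem_comap, hd]; exact Ideal.pow_mem_of_mem _ hc n hn
  rw [this M, ← this N, Ideal.mem_comap, hd] at hdM
  exact N.isMaximal.isPrime.mem_of_pow_mem n hdM

variable {X Y : Scheme.{u}} [IsIntegral X] [IsIntegral Y]

/-- For a radicially algebraically closed function field extension there is one maximal ideal over a
unibranch point. -/
theorem subsingleton_maximalSpectrum_integralClosureStalk (f : X ⟶ Y)
    (hdom : f.base (genericPoint X) ⤳ genericPoint Y)
    (hrad : ∀ x : X.functionField,
      (∃ q : Polynomial Y.functionField, q ≠ 0 ∧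
        Polynomial.eval₂ (CohIII.stalkToFunctionField f (genericPoint Y) hdom) x q = 0) →
      ∃ e : ℕ, x ^ (ringExpChar X.functionField ^ e) ∈
        Set.range (CohIII.stalkToFunctionField f (genericPoint Y) hdom))
    (y : Y) (h : f.base (genericPoint X) ⤳ y) (hy : CAlg2.IsUnibranch (Y.presheaf.stalk y)) :
    Subsingleton (MaximalSpectrum (CohIII.integralClosureStalk f y h)) := by
  let R := Y.presheaf.stalk y
  let φ := CohIII.stalkToFunctionField f (genericPoint Y) hdom
  have hspec : genericPoint Y ⤳ y := (genericPoint_spec Y).specializes (Set.mem_univ _)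
  let := (CohIII.stalkToFunctionField f y h).toAlgebra
  let D := integralClosure R Y.functionField
  let C := integralClosure R X.functionField
  have := isLocalRing_integralClosure (F := Y.functionField) hy
  have hcomp : ∀ a : R, φ (algebraMap R Y.functionField a) = algebraMap R X.functionField a := by
    intro a
    obtain ⟨W, hW, a, rfl⟩ := Y.presheaf.exists_germ_eq a
    have hη : genericPoint Y ∈ W := hspec.mem_open W.2 hW
    have hξW : genericPoint X ∈ f ⁻¹ᵁ W := h.mem_open W.2 hW
    refine Eq.trans (congrArg φ (congr($(Y.presheaf.germ_stalkSpecializes hW hspec) a)))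
      ((stalkToFunctionField_germ f hdom W hη hξW a).trans ?_)
    refine Eq.symm ((congrArg (f.stalkMap (genericPoint X)).hom
      (congr($(Y.presheaf.germ_stalkSpecializes hW h) a))).trans ?_)
    exact congr($(Scheme.Hom.germ_stalkMap f W (genericPoint X) hξW) a)
  have hcomp' : φ.comp (algebraMap R Y.functionField) = algebraMap R X.functionField := RingHom.ext hcomp
  have hmem : ∀ d : D, φ d ∈ C := by
    rintro ⟨d, P, hP, hP'⟩
    refine ⟨P, hP, ?_⟩
    rw [← hcomp', ← Polynomial.hom_eval₂, hP', map_zero]
  let ψ : D →+* C := (φ.comp D.val.toRingHom).codRestrict C.toSubring hmem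
  have hint : ψ.IsIntegral := RingHom.IsIntegral.tower_top (algebraMap R D) ψ (by
    rw [show ψ.comp (algebraMap R D) = algebraMap R C from RingHom.ext fun a => Subtype.ext (hcomp a)]
    exact algebraMap_isIntegral_iff.mpr inferInstance)
  show Subsingleton (MaximalSpectrum C)
  refine @subsingleton_maximalSpectrum D C _ _ _ ψ.toAlgebra
    (@Algebra.IsIntegral.mk D C _ _ ψ.toAlgebra hint) fun c => ?_
  obtain ⟨P, hP, hP'⟩ := c.2
  obtain ⟨e, z, hz⟩ := hrad c.1 ⟨P.map (algebraMap R Y.functionField), (hP.map _).ne_zero, by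
    rw [Polynomial.eval₂_map, hcomp']; exact hP'⟩
  refine ⟨ringExpChar X.functionField ^ e, pow_pos (expChar_pos X.functionField _) e, ?_⟩
  obtain ⟨Q, hQ, hQ'⟩ := (C.pow_mem c.2 (ringExpChar X.functionField ^ e))
  have hzint : z ∈ D := by
    refine ⟨Q, hQ, φ.injective ?_⟩
    rw [Polynomial.hom_eval₂, hcomp', map_zero]
    rw [show φ z = (c : X.functionField) ^ (ringExpChar X.functionField ^ e) from hz]
    exact hQ'
  exact ⟨⟨z, hzint⟩, Subtype.ext hz⟩

end Groth.Agent.H10ZMT
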