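import Groth.Agent.H10ZMT.Unibranch

/-!
# Unibranch local domains are stable under isomorphisms
-/

set_option autoImplicit false
set_option backward.isDefEq.respectTransparency false

universe u

namespace Groth.Agent.H10ZMT

/-- Being unibranch transports along ring isomorphisms of local domains. -/
theorem isUnibranch_of_ringEquiv {A B : Type u} [CommRing A] [IsDomain A] [IsLocalRing A] [CommRing B]
    [IsLocalRing B] (e : A ≃+* B) (h : CAlg2.IsUnibranch A) : CAlg2.IsUnibranch B := by
  have : IsDomain B := e.symm.toMulEquiv.isDomain A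
  have hbot : nilradical B = ⊥ := nilradical_eq_zero B
  let q : A ≃+* CAlg2.red B := e.trans (RingEquiv.ofBijective (Ideal.Quotient.mk (nilradical B))
    ⟨(RingHom.injective_iff_ker_eq_bot _).2 (by rw [Ideal.mk_ker, hbot]), Ideal.Quotient.mk_surjective⟩)
  have hdom : IsDomain (CAlg2.red B) := q.symm.toMulEquiv.isDomain A
  refine ⟨hdom, ?_⟩
  let F := FractionRing (CAlg2.red B)
  let : Algebra A F := ((algebraMap (CAlg2.red B) F).comp q.toRingHom).toAlgebra
  have hinj : Function.Injective (algebraMap A F) :=
    (IsFractionRing.injective (CAlg2.red B) F).comp q.injective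
  have : FaithfulSMul A F := (faithfulSMul_iff_algebraMap_injective A F).2 hinj
  have : IsFractionRing A F := IsFractionRing.of_field A F fun z => by
    obtain ⟨a, b, -, rfl⟩ := IsFractionRing.div_surjective (CAlg2.red B) z
    refine ⟨q.symm a, q.symm b, ?_⟩
    show _ = algebraMap (CAlg2.red B) F (q (q.symm a)) / algebraMap (CAlg2.red B) F (q (q.symm b))
    rw [RingEquiv.apply_symm_apply, RingEquiv.apply_symm_apply]
  have := isLocalRing_integralClosure (F := F) h
  let Φ : integralClosure A F →+* CAlg2.normRed B :=
    (integralClosure A F).val.toRingHom.codRestrict (integralClosure (CAlg2.red B) F).toSubring fun y => by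
      obtain ⟨P, hP, hP'⟩ := y.2
      exact ⟨P.map q.toRingHom, hP.map _, by rw [Polynomial.eval₂_map]; exact hP'⟩
  refine IsLocalRing.of_surjective' Φ fun x => ?_
  obtain ⟨P, hP, hP'⟩ := x.2
  refine ⟨⟨x.1, P.map q.symm.toRingHom, hP.map _, ?_⟩, Subtype.ext rfl⟩
  rw [Polynomial.eval₂_map]
  refine Eq.trans ?_ hP'
  congr 1
  ext a
  show algebraMap (CAlg2.red B) F (q (q.symm a)) = _
  rw [RingEquiv.apply_symm_apply]
  rfl

end Groth.Agent.H10ZMT
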